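import Groth.Prelude.Def_Hensel
import Groth.Agent.ApproxLib.RingCommonNbhd
import Groth.Agent.HenselLib.Local
import Groth.Agent.S0507
import Groth.Agent.S0508
import Groth.Agent.S0598
import Groth.Agent.S0599
import Mathlib

/-!
# Algebraizable local rings with isomorphic completions have isomorphic henselizations
-/

set_option autoImplicit false
set_option linter.all false

universe u

open IsLocalRing

namespace QuadHens

theorem bijective_residue {k O : Type u} [Field k] [CommRing O] [IsLocalRing O] [Algebra k O]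
    (hk : ∀ y : O, ∃ c : k, y - algebraMap k O c ∈ maximalIdeal O) :
    Function.Bijective ((residue O).comp (algebraMap k O)) := by
  refine ⟨RingHom.injective _, fun x => ?_⟩
  obtain ⟨y, rfl⟩ := residue_surjective x
  obtain ⟨c, hc⟩ := hk y
  exact ⟨c, (Ideal.Quotient.eq.2 hc).symm⟩

/-- The rational point of a local algebra with trivial residue field extension. -/
noncomputable def pt {k O : Type u} [Field k] [CommRing O] [IsLocalRing O] [Algebra k O]
    (hk : ∀ y : O, ∃ c : k, y - algebraMap k O c ∈ maximalIdeal O) : O →+* k :=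
  (RingEquiv.ofBijective _ (bijective_residue hk)).symm.toRingHom.comp (residue O)

theorem residue_pt {k O : Type u} [Field k] [CommRing O] [IsLocalRing O] [Algebra k O]
    (hk : ∀ y : O, ∃ c : k, y - algebraMap k O c ∈ maximalIdeal O) (y : O) :
    residue O (algebraMap k O (pt hk y)) = residue O y :=
  (RingEquiv.ofBijective _ (bijective_residue hk)).apply_symm_apply (residue O y)

theorem sub_pt {k O : Type u} [Field k] [CommRing O] [IsLocalRing O] [Algebra k O]
    (hk : ∀ y : O, ∃ c : k, y - algebraMap k O c ∈ maximalIdeal O) (y : O) :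
    y - algebraMap k O (pt hk y) ∈ maximalIdeal O :=
  Ideal.Quotient.eq.1 (residue_pt hk y).symm

theorem pt_eq_of_residue {k O : Type u} [Field k] [CommRing O] [IsLocalRing O] [Algebra k O]
    (hk : ∀ y : O, ∃ c : k, y - algebraMap k O c ∈ maximalIdeal O) (y : O) (c : k)
    (h : residue O y = residue O (algebraMap k O c)) : pt hk y = c :=
  (bijective_residue hk).1 ((residue_pt hk y).trans h)

theorem isGRing_field (k : Type u) [Field k] : CAlg.IsGRing k := by
  haveI : IsAdicComplete (maximalIdeal k) k := by rw [maximalIdeal_eq_bot]; infer_instance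
  exact Groth.Agent.S0598.result k

theorem algebraMap_completion {O : Type u} [CommRing O] [IsLocalRing O] [IsNoetherianRing O] {x : O}
    (hx : x ∈ maximalIdeal O) :
    algebraMap O (AdicCompletion (maximalIdeal O) O) x ∈ maximalIdeal (AdicCompletion (maximalIdeal O) O) := by
  rw [AdicCompletion.maximalIdeal_eq_map]
  exact Ideal.mem_map_of_mem _ hx

/-- A common etale neighbourhood with a rational point. -/
theorem exists_common {k O O' : Type u} [Field k] [CommRing O] [IsLocalRing O] [Algebra k O]
    [CommRing O'] [IsLocalRing O'] [Algebra k O'] (B : Type u) [CommRing B] [Algebra k B] [Algebra.FiniteType k B]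
    [Algebra B O] [IsScalarTower k B O] (P : Ideal B) [P.IsPrime] [IsLocalization.AtPrime O P]
    (B' : Type u) [CommRing B'] [Algebra k B'] [Algebra.FiniteType k B']
    [Algebra B' O'] [IsScalarTower k B' O'] (Q : Ideal B') [Q.IsPrime] [IsLocalization.AtPrime O' Q]
    (hk : ∀ y : O, ∃ c : k, y - algebraMap k O c ∈ maximalIdeal O)
    (hk' : ∀ y : O', ∃ c : k, y - algebraMap k O' c ∈ maximalIdeal O')
    (φ : AdicCompletion (maximalIdeal O') O' ≃+* AdicCompletion (maximalIdeal O) O)
    (hφ : ∀ c : k, φ (algebraMap O' _ (algebraMap k O' c)) = algebraMap O _ (algebraMap k O c)) :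
    ∃ (E : Type u) (_ : CommRing E) (u : B →+* E) (u' : B' →+* E) (ρ : E →+* k),
      u.Etale ∧ u'.Etale ∧ u.comp (algebraMap k B) = u'.comp (algebraMap k B') ∧
      (∀ b, ρ (u b) = pt hk (algebraMap B O b)) ∧ ∀ b, ρ (u' b) = pt hk' (algebraMap B' O' b) := by
  haveI : IsNoetherianRing B := Algebra.FiniteType.isNoetherianRing k B
  haveI : IsNoetherianRing B' := Algebra.FiniteType.isNoetherianRing k B'
  haveI : IsNoetherianRing O := IsLocalization.isNoetherianRing P.primeCompl O inferInstance
  haveI : IsNoetherianRing O' := IsLocalization.isNoetherianRing Q.primeCompl O' inferInstance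
  have hG : CAlg.IsGRing O := GRingLib.isGRing_of_isLocalization B O P.primeCompl
    (Groth.Agent.S0599.result k (isGRing_field k) B)
  obtain ⟨E, _, _, u, u', hu, hu', K, _, π, ι, hι, hπu, hπu'⟩ :=
    ApproxLib.exists_common_etale_ring (T := k) (BT := B) (CT := B') (L := O) (LY := O') P Q hG φ fun t => by
      rw [← IsScalarTower.algebraMap_apply k B' O', ← IsScalarTower.algebraMap_apply k B O]; exact hφ t
  let j : k →+* K := ι.comp ((residue O).comp (algebraMap k O))
  have hj : Function.Bijective j := ⟨j.injective, hι.comp (bijective_residue hk).2⟩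
  let e := RingEquiv.ofBijective j hj
  refine ⟨E, inferInstance, u.toRingHom, u'.toRingHom, e.symm.toRingHom.comp π, hu, hu',
    u.comp_algebraMap.trans u'.comp_algebraMap.symm, fun b => ?_, fun b => ?_⟩
  · refine (RingEquiv.symm_apply_eq e).2 ((hπu b).trans ?_)
    exact congrArg ι (residue_pt hk _).symm
  · refine (RingEquiv.symm_apply_eq e).2 ?_
    refine hπu' b (algebraMap k O (pt hk' (algebraMap B' O' b))) ?_
    rw [← hφ, ← map_sub, ← map_sub, ← map_maximalIdeal_of_surjective φ.toRingHom φ.surjective]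
    exact Ideal.mem_map_of_mem φ.toRingHom (algebraMap_completion (sub_pt hk' _))

/-- Maps of a common etale neighbourhood into a henselization. -/
theorem exists_map {k O O' Oh : Type u} [Field k] [CommRing O] [IsLocalRing O] [Algebra k O]
    [CommRing O'] [IsLocalRing O'] [Algebra k O'] {B B' E : Type u} [CommRing B] [Algebra k B]
    [Algebra B O] [IsScalarTower k B O] [CommRing B'] [Algebra k B']
    [Algebra B' O'] [IsScalarTower k B' O'] (Q : Ideal B') [Q.IsPrime] [IsLocalization.AtPrime O' Q] [CommRing E]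
    (u : B →+* E) (u' : B' →+* E) (hu : u.Etale) (hc : u.comp (algebraMap k B) = u'.comp (algebraMap k B'))
    (hk : ∀ y : O, ∃ c : k, y - algebraMap k O c ∈ maximalIdeal O)
    (hk' : ∀ y : O', ∃ c : k, y - algebraMap k O' c ∈ maximalIdeal O')
    (ρ : E →+* k) (hρ : ∀ b, ρ (u b) = pt hk (algebraMap B O b))
    (hρ' : ∀ b, ρ (u' b) = pt hk' (algebraMap B' O' b))
    [CommRing Oh] [HenselianLocalRing Oh] (j : O →+* Oh) [IsLocalHom j] :
    ∃ (f : E →+* Oh) (h : O' →+* Oh), f.comp u = j.comp (algebraMap B O) ∧
      h.comp (algebraMap B' O') = f.comp u' ∧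
      (∀ e, residue Oh (f e) = residue Oh (j (algebraMap k O (ρ e)))) ∧ IsLocalHom h ∧
      h.comp (algebraMap k O') = j.comp (algebraMap k O) := by
  letI : Algebra B E := u.toAlgebra
  haveI : Algebra.Etale B E := hu
  letI : Algebra B Oh := (j.comp (algebraMap B O)).toAlgebra
  let γ : k →+* ResidueField Oh := ((residue Oh).comp j).comp (algebraMap k O)
  obtain ⟨f, hf, -⟩ := HenselLib.existsUnique_algHom (R := B) (S := Oh) (B := E) (γ.comp ρ) (by
    refine RingHom.ext fun b => ?_
    show residue Oh (j (algebraMap k O (ρ (u b)))) = residue Oh (j (algebraMap B O b))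
    rw [hρ, eq_comm]
    refine Ideal.Quotient.eq.2 ?_
    rw [← map_sub]
    exact map_nonunit j _ (sub_pt hk _))
  have hunit : ∀ s : Q.primeCompl, IsUnit ((f.toRingHom.comp u') s) := fun s => by
    refine (notMem_maximalIdeal).1 fun hmem => ?_
    rw [← residue_eq_zero_iff] at hmem
    have h1 : γ (ρ (u' s)) = 0 := (hf (u' s)).symm.trans hmem
    rw [map_eq_zero, hρ'] at h1
    have h2 := residue_pt hk' (algebraMap B' O' s)
    rw [h1, map_zero, map_zero, eq_comm, residue_eq_zero_iff] at h2
    exact s.2 ((IsLocalization.AtPrime.to_map_mem_maximal_iff O' Q _).1 h2)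
  let h : O' →+* Oh := IsLocalization.lift (M := Q.primeCompl) hunit
  have hh : h.comp (algebraMap B' O') = f.toRingHom.comp u' := IsLocalization.lift_comp _
  refine ⟨f.toRingHom, h, f.comp_algebraMap, hh, hf, ⟨fun x hx => ?_⟩, ?_⟩
  · obtain ⟨c, s, rfl⟩ := IsLocalization.exists_mk'_eq Q.primeCompl x
    refine (IsLocalization.AtPrime.isUnit_mk'_iff O' Q c s).2 fun hc' => ?_
    have h1 : IsUnit (f (u' c)) := by
      have := hx.mul ((IsLocalization.map_units O' s).map h)
      rwa [← map_mul, IsLocalization.mk'_spec, ← RingHom.comp_apply, hh] at this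
    have h2 : pt hk' (algebraMap B' O' c) = 0 := pt_eq_of_residue _ _ _ (by
      rw [map_zero, map_zero, residue_eq_zero_iff]
      exact (IsLocalization.AtPrime.to_map_mem_maximal_iff O' Q _).2 hc')
    have h3 : residue Oh (f (u' c)) = 0 := by
      rw [hf]; show γ (ρ (u' c)) = 0
      rw [hρ', h2, map_zero]
    exact (h1.map (residue Oh)).ne_zero h3
  · rw [IsScalarTower.algebraMap_eq k B' O', ← RingHom.comp_assoc, hh, RingHom.comp_assoc, ← hc,
      ← RingHom.comp_assoc, show f.toRingHom.comp u = j.comp (algebraMap B O) from f.comp_algebraMap,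
      RingHom.comp_assoc, ← IsScalarTower.algebraMap_eq]

theorem etale_hom_ext {B E T : Type u} [CommRing B] [CommRing E] [CommRing T] [HenselianLocalRing T]
    (u : B →+* E) (hu : u.Etale) (f g : E →+* T) (h : f.comp u = g.comp u)
    (hr : ∀ e, residue T (f e) = residue T (g e)) : f = g := by
  letI : Algebra B E := u.toAlgebra
  haveI : Algebra.Etale B E := hu
  letI : Algebra B T := (f.comp u).toAlgebra
  let f' : E →ₐ[B] T := { f with commutes' := fun b => rfl }
  let g' : E →ₐ[B] T := { g with commutes' := fun b => (RingHom.congr_fun h b).symm }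
  obtain ⟨f₀, -, huniq⟩ := HenselLib.existsUnique_algHom (R := B) (S := T) (B := E)
    ((residue T).comp f) rfl
  have h1 : f' = g' := (huniq f' fun _ => rfl).trans (huniq g' fun e => (hr e).symm).symm
  exact congrArg AlgHom.toRingHom h1

theorem isLocalHom_of_hens {R S T : Type u} [CommRing R] [IsLocalRing R] [CommRing S] [IsLocalRing S] [Algebra R S]
    [IsLocalHom (algebraMap R S)] [Hensel.IsHenselization R S] [CommRing T] [IsLocalRing T] (g : S →+* T)
    (h : IsLocalHom (g.comp (algebraMap R S))) : IsLocalHom g := by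
  refine ((local_hom_TFAE g).out 0 2).2 ?_
  rw [← Groth.Agent.S0507.result R S, Ideal.map_map]
  exact ((local_hom_TFAE (g.comp (algebraMap R S))).out 0 2).1 h

theorem hens_residue {k R S : Type u} [Field k] [CommRing R] [IsLocalRing R] [CommRing S] [IsLocalRing S]
    [Algebra R S] [IsLocalHom (algebraMap R S)] [Hensel.IsHenselization R S] [Algebra k R]
    (hk : ∀ y : R, ∃ c : k, y - algebraMap k R c ∈ maximalIdeal R) (z : S) :
    ∃ c : k, residue S z = residue S (algebraMap R S (algebraMap k R c)) := by
  obtain ⟨x, hx⟩ := (Groth.Agent.S0508.result R S).2 (residue S z)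
  obtain ⟨y, rfl⟩ := residue_surjective x
  obtain ⟨c, hc⟩ := hk y
  refine ⟨c, ?_⟩
  rw [← hx, ← ResidueField.map_residue (algebraMap R S)]
  exact congrArg _ (Ideal.Quotient.eq.2 hc)

theorem comp_eq {k O O' Oh C : Type u} [Field k] [CommRing O] [IsLocalRing O] [Algebra k O]
    {B B' E : Type u} [CommRing B] [Algebra B O] [CommRing B'] [CommRing O'] [IsLocalRing O'] [Algebra k O']
    [Algebra B' O'] (Q : Submonoid B') [IsLocalization Q O'] [CommRing E]
    (u : B →+* E) (u' : B' →+* E) (hu : u.Etale) (ρ : E →+* k)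
    [CommRing Oh] [IsLocalRing Oh] [CommRing C] [IsLocalRing C] [HenselianLocalRing C]
    [Algebra O Oh] [Algebra O' C] [IsLocalHom (algebraMap O' C)] [Hensel.IsHenselization O' C]
    (f : E →+* Oh) (f₂ : E →+* C) (h : O' →+* Oh) (h₂ : O →+* C)
    (hfu : f.comp u = (algebraMap O Oh).comp (algebraMap B O))
    (hh : h.comp (algebraMap B' O') = f.comp u')
    (hres : ∀ e, residue Oh (f e) = residue Oh (algebraMap O Oh (algebraMap k O (ρ e))))
    (hfu₂ : f₂.comp u' = (algebraMap O' C).comp (algebraMap B' O'))
    (hh₂ : h₂.comp (algebraMap B O) = f₂.comp u)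
    (hres₂ : ∀ e, residue C (f₂ e) = residue C (algebraMap O' C (algebraMap k O' (ρ e))))
    (hk₂ : h₂.comp (algebraMap k O) = (algebraMap O' C).comp (algebraMap k O'))
    (α : C →+* Oh) (β : Oh →+* C) [IsLocalHom β]
    (hα : α.comp (algebraMap O' C) = h) (hβ : β.comp (algebraMap O Oh) = h₂) :
    β.comp α = RingHom.id C := by
  have hf : β.comp f = f₂ := by
    refine etale_hom_ext u hu _ _ ?_ fun e => ?_
    · rw [RingHom.comp_assoc, hfu, ← RingHom.comp_assoc, hβ, hh₂]
    · have h1 := congrArg (ResidueField.map β) (hres e)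
      rw [ResidueField.map_residue, ResidueField.map_residue] at h1
      rw [hres₂, RingHom.comp_apply, h1]
      exact congrArg (residue C) ((RingHom.congr_fun hβ _).trans (RingHom.congr_fun hk₂ (ρ e)))
  have h2 : (β.comp α).comp (algebraMap O' C) = algebraMap O' C := by
    refine IsLocalization.ringHom_ext Q ?_
    rw [show (β.comp α).comp (algebraMap O' C) = β.comp h by rw [← hα]; rfl, RingHom.comp_assoc, hh,
      ← RingHom.comp_assoc, hf, hfu₂]
  obtain ⟨g, -, hg⟩ := Hensel.IsHenselization.universal (R := O') (S := C) C (algebraMap O' C) inferInstance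
  exact (hg _ h2).trans (hg _ (RingHom.id_comp _)).symm

/-- Local rings of algebras of finite type at rational points with isomorphic completions have isomorphic
henselizations. -/
theorem nonempty_equiv {k O O' Oh C : Type u} [Field k] [CommRing O] [IsLocalRing O] [Algebra k O]
    [Algebra.EssFiniteType k O] [CommRing O'] [IsLocalRing O'] [Algebra k O'] [Algebra.EssFiniteType k O']
    (hk : ∀ y : O, ∃ c : k, y - algebraMap k O c ∈ maximalIdeal O)
    (hk' : ∀ y : O', ∃ c : k, y - algebraMap k O' c ∈ maximalIdeal O')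
    (φ : AdicCompletion (maximalIdeal O') O' ≃+* AdicCompletion (maximalIdeal O) O)
    (hφ : ∀ c : k, φ (algebraMap O' _ (algebraMap k O' c)) = algebraMap O _ (algebraMap k O c))
    [CommRing Oh] [IsLocalRing Oh] [Algebra O Oh] [IsLocalHom (algebraMap O Oh)] [Hensel.IsHenselization O Oh]
    [Algebra k Oh] [IsScalarTower k O Oh]
    [CommRing C] [IsLocalRing C] [Algebra O' C] [IsLocalHom (algebraMap O' C)] [Hensel.IsHenselization O' C]
    [Algebra k C] [IsScalarTower k O' C] : Nonempty (Oh ≃ₐ[k] C) := by
  let B := Algebra.EssFiniteType.subalgebra k O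
  let B' := Algebra.EssFiniteType.subalgebra k O'
  let P : Ideal B := (maximalIdeal O).comap (algebraMap B O)
  let Q : Ideal B' := (maximalIdeal O').comap (algebraMap B' O')
  haveI : P.IsPrime := Ideal.IsPrime.comap _
  haveI : Q.IsPrime := Ideal.IsPrime.comap _
  have hM : Algebra.EssFiniteType.submonoid k O = P.primeCompl := by
    ext x
    exact (notMem_maximalIdeal (x := algebraMap B O x)).symm
  have hM' : Algebra.EssFiniteType.submonoid k O' = Q.primeCompl := by
    ext x
    exact (notMem_maximalIdeal (x := algebraMap B' O' x)).symm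
  haveI : IsLocalization.AtPrime O P := show IsLocalization P.primeCompl O from
    hM ▸ (inferInstance : IsLocalization (Algebra.EssFiniteType.submonoid k O) O)
  haveI : IsLocalization.AtPrime O' Q := show IsLocalization Q.primeCompl O' from
    hM' ▸ (inferInstance : IsLocalization (Algebra.EssFiniteType.submonoid k O') O')
  haveI : HenselianLocalRing Oh := Hensel.IsHenselization.henselian (R := O)
  haveI : HenselianLocalRing C := Hensel.IsHenselization.henselian (R := O')
  obtain ⟨E, _, u, u', ρ, hu, hu', hc, hρ, hρ'⟩ :=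
    exists_common B P B' Q hk hk' φ hφ
  obtain ⟨f, h, hfu, hh, hres, hloc, hkc⟩ :=
    exists_map Q u u' hu hc hk hk' ρ hρ hρ' (algebraMap O Oh)
  obtain ⟨f₂, h₂, hfu₂, hh₂, hres₂, hloc₂, hkc₂⟩ :=
    exists_map P u' u hu' hc.symm hk' hk ρ hρ' hρ (algebraMap O' C)
  obtain ⟨α, hα, -⟩ := Hensel.IsHenselization.universal (R := O') (S := C) Oh h hloc
  obtain ⟨β, hβ, -⟩ := Hensel.IsHenselization.universal (R := O) (S := Oh) C h₂ hloc₂
  haveI : IsLocalHom α := isLocalHom_of_hens α (hα.symm ▸ hloc)
  haveI : IsLocalHom β := isLocalHom_of_hens β (hβ.symm ▸ hloc₂)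
  have h1 : β.comp α = RingHom.id C :=
    comp_eq Q.primeCompl u u' hu ρ f f₂ h h₂ hfu hh hres hfu₂ hh₂ hres₂ hkc₂ α β hα hβ
  have h2 : α.comp β = RingHom.id Oh :=
    comp_eq P.primeCompl u' u hu' ρ f₂ f h₂ h hfu₂ hh₂ hres₂ hfu hh hres hkc β α hβ hα
  refine ⟨AlgEquiv.ofRingEquiv (f := RingEquiv.ofRingHom β α h1 h2) fun c => ?_⟩
  show β (algebraMap k Oh c) = algebraMap k C c
  rw [IsScalarTower.algebraMap_apply k O Oh, IsScalarTower.algebraMap_apply k O' C]
  exact (RingHom.congr_fun hβ _).trans (RingHom.congr_fun hkc₂ c)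

end QuadHens
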