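import Groth.Prelude.Def_QuadSing
import Groth.Agent.OrdQuadLib.PSQuad
import Groth.Agent.ConormalAlgzLib.Complete
import Groth.Agent.CompleteLib.Noetherian
import Mathlib

/-!
# The completion of a quadratic cone at the vertex
-/

set_option autoImplicit false
set_option linter.all false

universe u

open IsLocalRing VanCyc CohenLib

namespace QuadHens

variable {k : Type u} [Field k] {N : ℕ} (a : Fin N → Fin N → k)

theorem originIdeal_eq : originIdeal (N := N) k = MvPolynomial.idealOfVars (Fin N) k := by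
  rw [originIdeal, maximalIdeal_eq_bot, Ideal.map_bot, bot_sup_eq, MvPolynomial.idealOfVars]

theorem mem_origin_of_constantCoeff {p : MvPolynomial (Fin N) k} (hp : MvPolynomial.constantCoeff p = 0) :
    Ideal.Quotient.mk _ p ∈ originQuot k a 0 := by
  refine Ideal.mem_map_of_mem _ ?_
  rw [originIdeal_eq, ← pow_one (MvPolynomial.idealOfVars (Fin N) k), MvPolynomial.mem_pow_idealOfVars_iff']
  intro e he
  rw [(Finsupp.degree_eq_zero_iff e).1 (by omega)]
  exact hp

theorem exists_residue [(originQuot k a 0).IsPrime] (Y : Type u) [CommRing Y] [IsLocalRing Y]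
    [Algebra (quadRing k a 0) Y] [IsLocalization.AtPrime Y (originQuot k a 0)] [Algebra k Y]
    [IsScalarTower k (quadRing k a 0) Y] (y : Y) :
    ∃ c : k, y - algebraMap k _ c ∈ maximalIdeal Y := by
  obtain ⟨r, s, rfl⟩ := IsLocalization.exists_mk'_eq (originQuot k a 0).primeCompl y
  obtain ⟨p, rfl⟩ := Ideal.Quotient.mk_surjective r
  obtain ⟨t, ht⟩ := Ideal.Quotient.mk_surjective (s : quadRing k a 0)
  have ht0 : MvPolynomial.constantCoeff t ≠ 0 := fun h => s.2 (ht ▸ mem_origin_of_constantCoeff a h)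
  let c := MvPolynomial.constantCoeff p / MvPolynomial.constantCoeff t
  refine ⟨c, (Ideal.mul_unit_mem_iff_mem _ (IsLocalization.map_units Y s)).1 ?_⟩
  rw [sub_mul, IsLocalization.mk'_spec, IsScalarTower.algebraMap_apply k (quadRing k a 0) Y, ← map_mul, ← map_sub]
  refine (IsLocalization.AtPrime.to_map_mem_maximal_iff Y (originQuot k a 0) _).2 ?_
  rw [← ht, IsScalarTower.algebraMap_apply k (MvPolynomial (Fin N) k) (quadRing k a 0)]
  show Ideal.Quotient.mk _ p - Ideal.Quotient.mk _ (MvPolynomial.C c) * Ideal.Quotient.mk _ t ∈ _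
  rw [← map_mul, ← map_sub]
  exact mem_origin_of_constantCoeff a (by simp [c, div_mul_cancel₀ _ ht0])

/-- The completion of the cone at the vertex. -/
theorem exists_completion_equiv [(originQuot k a 0).IsPrime] (Y : Type u) [CommRing Y] [IsLocalRing Y]
    [Algebra (quadRing k a 0) Y] [IsLocalization.AtPrime Y (originQuot k a 0)] [Algebra k Y]
    [IsScalarTower k (quadRing k a 0) Y] :
    ∃ e : AdicCompletion (maximalIdeal Y) Y ≃+*
        (MvPowerSeries (Fin N) k ⧸ Ideal.span {(quadPoly a : MvPowerSeries (Fin N) k)}),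
      ∀ c : k, e (algebraMap _ _ (algebraMap k Y c)) = algebraMap k _ c := by
  let O := originQuot k a 0
  let I : Ideal (MvPowerSeries (Fin N) k) := Ideal.span {(quadPoly a : MvPowerSeries (Fin N) k)}
  let co : MvPolynomial (Fin N) k →+* MvPowerSeries (Fin N) k := algebraMap _ _
  have hco : ∀ p, co p = (p : MvPowerSeries (Fin N) k) := fun p => by simp [co, MvPowerSeries.algebraMap_apply']
  let Ψ : quadRing k a 0 →+* MvPowerSeries (Fin N) k ⧸ I :=
    Ideal.Quotient.lift _ ((Ideal.Quotient.mk I).comp co) fun x hx => by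
      obtain ⟨y, rfl⟩ := Ideal.mem_span_singleton'.1 hx
      simp only [MvPolynomial.C_0, sub_zero, map_mul, RingHom.comp_apply]
      rw [hco (quadPoly a), Ideal.Quotient.eq_zero_iff_mem.2 (Ideal.mem_span_singleton_self _), mul_zero]
  have hΨ : ∀ p, Ψ (Ideal.Quotient.mk _ p) = Ideal.Quotient.mk I (co p) := fun p => rfl
  have hunit : ∀ s : O.primeCompl, IsUnit (Ψ s) := fun s => by
    obtain ⟨t, ht⟩ := Ideal.Quotient.mk_surjective (s : quadRing k a 0)
    rw [← ht, hΨ]
    refine IsUnit.map _ (MvPowerSeries.isUnit_iff_constantCoeff.2 (isUnit_iff_ne_zero.2 fun h => s.2 ?_))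
    refine ht ▸ mem_origin_of_constantCoeff a ?_
    rw [← h, hco, ← MvPowerSeries.coeff_zero_eq_constantCoeff, MvPolynomial.coeff_coe]; rfl
  let Φ : Y →+* MvPowerSeries (Fin N) k ⧸ I := IsLocalization.lift (M := O.primeCompl) hunit
  have hΦ : ∀ r, Φ (algebraMap (quadRing k a 0) Y r) = Ψ r := fun r => IsLocalization.lift_eq _ r
  have hJ : (maximalIdeal Y).map Φ = (varsIdeal k N).map (Ideal.Quotient.mk I) := by
    rw [← IsLocalization.AtPrime.map_eq_maximalIdeal (originQuot k a 0) Y, Ideal.map_map,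
      show Φ.comp (algebraMap (quadRing k a 0) Y) = Ψ from RingHom.ext hΦ]
    show ((originIdeal k).map _).map Ψ = _
    rw [Ideal.map_map, show Ψ.comp (Ideal.Quotient.mk _) = (Ideal.Quotient.mk I).comp co from RingHom.ext hΨ,
      ← Ideal.map_map, originIdeal_eq, MvPolynomial.idealOfVars, Ideal.map_span, ← Set.range_comp]
    congr 2
    refine congrArg Set.range (funext fun i => ?_)
    show co _ = _
    rw [hco, MvPolynomial.coe_X]
  haveI := isNoetherianRing_mvPowerSeries (n := N) k
  haveI := isAdicComplete_varsIdeal (n := N) k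
  have hC : IsAdicComplete ((maximalIdeal Y).map Φ) (MvPowerSeries (Fin N) k ⧸ I) := by
    rw [hJ]
    exact (IsAdicComplete.map_algebraMap_iff (varsIdeal k N) _).2
      (CompleteLib.isAdicComplete_of_finite (M := MvPowerSeries (Fin N) k ⧸ I))
  obtain ⟨e, he⟩ := ConormalAlgz.exists_equiv_completion (maximalIdeal Y) Φ hC
    (fun n y => by
      obtain ⟨F, rfl⟩ := Ideal.Quotient.mk_surjective y
      obtain ⟨p, hp⟩ := exists_polynomial_sub_mem n F
      refine ⟨algebraMap (quadRing k a 0) Y (Ideal.Quotient.mk (Ideal.span {quadPoly a - MvPolynomial.C 0}) p), ?_⟩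
      rw [hΦ, hΨ, hJ, ← map_sub, ← Ideal.map_pow]
      exact Ideal.mem_map_of_mem _ hp)
    (fun n d hd => by
      obtain ⟨r, s, rfl⟩ := IsLocalization.exists_mk'_eq O.primeCompl d
      obtain ⟨p, rfl⟩ := Ideal.Quotient.mk_surjective r
      refine (Ideal.mul_unit_mem_iff_mem _ (IsLocalization.map_units Y s)).1 ?_
      rw [IsLocalization.mk'_spec]
      have h1 := Ideal.mul_mem_right (Φ (algebraMap _ Y (s : quadRing k a 0))) _ hd
      rw [← map_mul, IsLocalization.mk'_spec, hΦ, hΨ, hJ, ← Ideal.map_pow,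
        Ideal.mem_map_iff_of_surjective _ Ideal.Quotient.mk_surjective] at h1
      obtain ⟨w, hw, hwp⟩ := h1
      obtain ⟨g, hg⟩ := Ideal.mem_span_singleton'.1 (Ideal.Quotient.eq.1 hwp)
      obtain ⟨t, ht⟩ := exists_polynomial_sub_mem n g
      have h2 : co (p + t * quadPoly a) ∈ varsIdeal k N ^ n := by
        have h3 : co (p + t * quadPoly a) = w - (g - co t) * co (quadPoly a) := by
          rw [map_add, map_mul]
          have : g * co (quadPoly a) = w - co p := by rw [hco (quadPoly a)]; exact hg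
          linear_combination this
        rw [h3]
        exact sub_mem hw (Ideal.mul_mem_right _ _ ht)
      have h4 : p + t * quadPoly a ∈ MvPolynomial.idealOfVars (Fin N) k ^ n := by
        rw [MvPolynomial.mem_pow_idealOfVars_iff']
        intro e he
        rw [← OrdQuad.coeff_algebraMap]
        exact OrdQuad.coeff_eq_zero_of_mem_pow h2 he
      have h5 : Ideal.Quotient.mk (Ideal.span {quadPoly a - MvPolynomial.C 0}) p =
          Ideal.Quotient.mk _ (p + t * quadPoly a) := by
        refine (Ideal.Quotient.eq.2 ?_).symm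
        rw [add_sub_cancel_left, MvPolynomial.C_0, sub_zero]
        exact Ideal.mem_span_singleton'.2 ⟨t, rfl⟩
      rw [h5, ← IsLocalization.AtPrime.map_eq_maximalIdeal (originQuot k a 0) Y, ← Ideal.map_pow]
      refine Ideal.mem_map_of_mem _ ?_
      show _ ∈ ((originIdeal k).map _) ^ n
      rw [← Ideal.map_pow, originIdeal_eq]
      exact Ideal.mem_map_of_mem _ h4)
  refine ⟨e.symm, fun c => (RingEquiv.symm_apply_eq e).2 ((he _).symm.trans (congrArg e ?_))⟩
  rw [IsScalarTower.algebraMap_apply k (quadRing k a 0) Y, hΦ,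
    IsScalarTower.algebraMap_apply k (MvPolynomial (Fin N) k) (quadRing k a 0)]
  show Ideal.Quotient.mk I (co (MvPolynomial.C c)) = _
  rw [hco, MvPolynomial.coe_C, IsScalarTower.algebraMap_apply k (MvPowerSeries (Fin N) k),
    MvPowerSeries.c_eq_algebraMap]
  rfl

end QuadHens
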