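import Groth.Agent.MorseLib.Hessian
import Mathlib

/-!
# The normal form of an ordinary quadratic series
-/

set_option autoImplicit false
set_option linter.all false

universe u

open MvPowerSeries MorseLib

namespace QuadHens

variable {k : Type u} [Field k] {N : ℕ}

local notation "PS" => MvPowerSeries (Fin N) k
local notation "L" => Low (⊥ : Ideal k)

theorem quadEval_smul {R : Type u} [CommRing R] (q : Fin N → Fin N → R) (c : R) (v : Fin N → R) :
    VanCyc.quadEval q (c • v) = c ^ 2 * VanCyc.quadEval q v := by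
  simp only [VanCyc.quadEval, Pi.smul_apply, smul_eq_mul, Finset.mul_sum]
  refine Finset.sum_congr rfl fun i _ => Finset.sum_congr rfl fun j _ => ?_
  split_ifs <;> ring

theorem polarMatrix_symm {R : Type u} [CommRing R] (q : Fin N → Fin N → R) (i j : Fin N) :
    VanCyc.polarMatrix q i j = VanCyc.polarMatrix q j i := by
  rw [polarMatrix_eq, polarMatrix_eq, add_comm]

theorem polarMatrix_C (q : Fin N → Fin N → k) (i j : Fin N) :
    VanCyc.polarMatrix (fun i j => (C (q i j) : PS)) i j = C (VanCyc.polarMatrix q i j) := by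
  rw [polarMatrix_eq, polarMatrix_eq]; split_ifs <;> simp

/-- The quadratic form as a series. -/
noncomputable def Qs (q : Fin N → Fin N → k) (v : Fin N → PS) : PS := VanCyc.quadEval (fun i j => C (q i j)) v

/-- The partial derivatives of the quadratic form as series. -/
noncomputable def dQ (q : Fin N → Fin N → k) (i : Fin N) : PS := ∑ j, C (VanCyc.polarMatrix q i j) * X j

theorem dQ_mem (q : Fin N → Fin N → k) (i : Fin N) : dQ q i ∈ L 1 :=
  Submodule.sum_mem _ fun j _ => Ideal.mul_mem_left _ _ (X_mem_Low j)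

theorem Qs_add (q : Fin N → Fin N → k) (x y : Fin N → PS) :
    Qs q (x + y) = Qs q x + Qs q y + ∑ i, x i * ∑ j, C (VanCyc.polarMatrix q i j) * y j := by
  simp only [Qs, quadEval_add, polarMatrix_C]

theorem sum_X_mul_polar (q : Fin N → Fin N → k) (y : Fin N → PS) :
    ∑ i, X i * ∑ j, C (VanCyc.polarMatrix q i j) * y j = ∑ j, y j * dQ q j := by
  simp only [dQ, Finset.mul_sum]
  rw [Finset.sum_comm]
  refine Finset.sum_congr rfl fun j _ => Finset.sum_congr rfl fun i _ => ?_
  rw [polarMatrix_symm q i j]; ring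

theorem exists_ker_vec [IsAlgClosed k] (q : Fin N → Fin N → k) (hq : VanCyc.QuadOrd q) :
    ∃ w : Fin N → k, (VanCyc.polarMatrix q).mulVec w = 0 ∧
      ∀ v, (VanCyc.polarMatrix q).mulVec v = 0 → ∃ s : k, v = s • w := by
  by_cases h : ∀ v, (VanCyc.polarMatrix q).mulVec v = 0 → v = 0
  · exact ⟨0, Matrix.mulVec_zero _, fun v hv => ⟨0, by rw [h v hv, zero_smul]⟩⟩
  push Not at h
  obtain ⟨w, hw, hw0⟩ := h
  refine ⟨w, hw, fun v hv => ?_⟩
  have hQw : VanCyc.quadEval q w ≠ 0 := fun h0 => hw0 (hq w h0 hw)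
  obtain ⟨t, ht⟩ := IsAlgClosed.exists_pow_nat_eq (-VanCyc.quadEval q v / VanCyc.quadEval q w) (show 0 < 2 by omega)
  refine ⟨-t, ?_⟩
  have h0 : v + t • w = 0 := by
    refine hq _ ?_ (by rw [Matrix.mulVec_add, Matrix.mulVec_smul, hv, hw, smul_zero, add_zero])
    rw [quadEval_add, quadEval_smul, ht, div_mul_cancel₀ _ hQw]
    simp only [Pi.smul_apply, smul_eq_mul, mul_left_comm _ t, ← Finset.mul_sum]
    have : ∀ i, ∑ j, VanCyc.polarMatrix q i j * w j = 0 := fun i => congrFun hw i
    simp [this]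
  rw [neg_smul, eq_neg_iff_add_eq_zero]; exact h0

/-- Every variable is a multiple of one of them modulo the derivatives, and the square of that one lies in the
ideal of the form and its derivatives. -/
theorem exists_split [IsAlgClosed k] (q : Fin N → Fin N → k) (hq : VanCyc.QuadOrd q) :
    ∃ (Y : PS) (lam : Fin N → k) (c : Fin N → Fin N → k) (a : k) (b : Fin N → PS),
      Y ∈ L 1 ∧ (∀ i, b i ∈ L 1) ∧ (∀ j, X j = C (lam j) * Y + ∑ i, C (c j i) * dQ q i) ∧
      Y * Y = C a * Qs q (fun i => X i) + ∑ i, b i * dQ q i := by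
  classical
  obtain ⟨w, hw, hker⟩ := exists_ker_vec q hq
  set M := VanCyc.polarMatrix q with hM
  have hdual : ∀ (c : Fin N → k) (v : Fin N → k),
      (∑ i, C (c i) * dQ q i) = ∑ l, C (M.mulVec c l) * X l := fun c v => by
    simp only [dQ, Finset.mul_sum, Matrix.mulVec, dotProduct, map_sum, Finset.sum_mul]
    rw [Finset.sum_comm]
    refine Finset.sum_congr rfl fun l _ => Finset.sum_congr rfl fun i _ => ?_
    rw [hM, polarMatrix_symm q i l, map_mul]; ring
  have hsingle : ∀ j, (X j : PS) = ∑ l, C ((Pi.single j 1 : Fin N → k) l) * X l := fun j => by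
    rw [Finset.sum_eq_single j] <;> simp +contextual
  by_cases hw0 : w = 0
  · have hinj : Function.Injective M.mulVecLin := by
      refine (injective_iff_map_eq_zero _).2 fun v hv => ?_
      obtain ⟨s, hs⟩ := hker v hv
      rw [hs, hw0, smul_zero]
    choose c hc using fun j => LinearMap.injective_iff_surjective.1 hinj (Pi.single j 1)
    refine ⟨0, 0, c, 0, 0, zero_mem _, fun i => zero_mem _, fun j => ?_, by simp⟩
    rw [hdual (c j) 0, hsingle j]
    simp only [Pi.zero_apply, map_zero, zero_mul, zero_add]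
    exact Finset.sum_congr rfl fun l _ => by rw [← hc j]; rfl
  · obtain ⟨j₀, hj₀⟩ := Function.ne_iff.1 hw0
    have hj₀ : w j₀ ≠ 0 := hj₀
    let T : (Fin N → k) →ₗ[k] Fin N → k :=
      M.mulVecLin + (LinearMap.proj j₀).smulRight (Pi.single j₀ 1 : Fin N → k)
    have hdot : ∀ c : Fin N → k, dotProduct w (M.mulVec c) = 0 := fun c => by
      rw [Matrix.dotProduct_mulVec, ← Matrix.mulVec_transpose,
        show M.transpose = M from Matrix.ext fun i j => polarMatrix_symm q j i, hw, zero_dotProduct]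
    have hT : ∀ c, dotProduct w (T c) = c j₀ * w j₀ := fun c => by
      show dotProduct w (M.mulVec c + c j₀ • Pi.single j₀ (1 : k)) = _
      rw [dotProduct_add, hdot, zero_add, dotProduct_smul, dotProduct_single, mul_one, smul_eq_mul]
    have hinj : Function.Injective T := by
      refine (injective_iff_map_eq_zero _).2 fun v hv => ?_
      have h1 := hT v
      rw [hv, dotProduct_zero, eq_comm, mul_eq_zero, or_iff_left hj₀] at h1
      have h2 : M.mulVec v + v j₀ • Pi.single j₀ (1 : k) = 0 := hv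
      rw [h1, zero_smul, add_zero] at h2
      obtain ⟨s, hs⟩ := hker v h2
      rw [hs, Pi.smul_apply, smul_eq_mul, mul_eq_zero, or_iff_left hj₀] at h1
      rw [hs, h1, zero_smul]
    choose c hc using fun j => LinearMap.injective_iff_surjective.1 hinj (Pi.single j 1)
    let lam : Fin N → k := fun j => c j j₀
    have hlam : ∀ j, lam j * w j₀ = w j := fun j => by
      show c j j₀ * w j₀ = _
      rw [← hT, hc, dotProduct_single, mul_one]
    have hX : ∀ j, (X j : PS) = C (lam j) * X j₀ + ∑ i, C (c j i) * dQ q i := fun j => by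
      rw [hdual (c j) 0, hsingle j, hsingle j₀, Finset.mul_sum, ← Finset.sum_add_distrib]
      refine Finset.sum_congr rfl fun l _ => ?_
      rw [← mul_assoc, ← map_mul, ← add_mul, ← map_add]
      congr 2
      rw [← hc j]
      show (M.mulVec (c j)) l + c j j₀ * (Pi.single j₀ 1 : Fin N → k) l = _
      ring
    have hQ0 : VanCyc.quadEval q lam ≠ 0 := by
      intro h0
      have h1 : w j₀ • lam = w := funext fun j => (mul_comm _ _).trans (hlam j)
      refine hw0 (hq w ?_ hw)
      rw [← h1, quadEval_smul, h0, mul_zero]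
    set Q0 := VanCyc.quadEval q lam
    let R : Fin N → PS := fun j => ∑ i, C (c j i) * dQ q i
    let x0 : Fin N → PS := fun j => C (lam j) * X j₀
    have hQx0 : Qs q x0 = C Q0 * (X j₀ * X j₀) := by
      simp only [Qs, x0, Q0, VanCyc.quadEval, map_sum, Finset.sum_mul]
      refine Finset.sum_congr rfl fun i _ => Finset.sum_congr rfl fun j _ => ?_
      split_ifs <;> simp [map_mul] <;> ring
    have hRmem : ∀ i, R i ∈ L 1 := fun i => Submodule.sum_mem _ fun j _ => Ideal.mul_mem_left _ _ (dQ_mem q j)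
    -- the remaining terms lie in the ideal of the derivatives with coefficients of positive order
    let S : Ideal PS := Ideal.span (Set.range (dQ q))
    have hR : ∀ i, R i ∈ S := fun i =>
      Submodule.sum_mem _ fun j _ => Ideal.mul_mem_left _ _ (Ideal.subset_span ⟨j, rfl⟩)
    have hrest : Qs q (fun i => X i) - C Q0 * (X j₀ * X j₀) ∈ L 1 * S := by
      rw [show (fun i => (X i : PS)) = x0 + R from funext hX, Qs_add, hQx0,
        add_assoc, add_sub_cancel_left]
      refine add_mem ?_ (Submodule.sum_mem _ fun i _ => Ideal.mul_mem_mul ?_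
        (Submodule.sum_mem _ fun j _ => Ideal.mul_mem_left _ _ (hR j)))
      · unfold Qs VanCyc.quadEval
        refine Submodule.sum_mem _ fun i _ => Submodule.sum_mem _ fun j _ => ?_
        split_ifs
        · exact Ideal.mul_mem_mul (Ideal.mul_mem_left _ _ (hRmem i)) (hR j)
        · exact zero_mem _
      · exact Ideal.mul_mem_left _ _ (X_mem_Low j₀)
    rw [← smul_eq_mul, Submodule.mem_ideal_smul_span_iff_exists_sum] at hrest
    obtain ⟨b, hb, hbsum⟩ := hrest
    refine ⟨X j₀, lam, c, Q0⁻¹, fun i => -(C Q0⁻¹ * b i), X_mem_Low j₀,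
      fun i => neg_mem (Ideal.mul_mem_left _ _ (hb i)), hX, ?_⟩
    have h2 : b.sum (fun i a => a • dQ q i) = ∑ i, b i * dQ q i := by
      rw [Finsupp.sum_fintype _ _ fun i => by simp]; rfl
    rw [h2] at hbsum
    have h3 : (C Q0⁻¹ : PS) * C Q0 = 1 := by rw [← map_mul, inv_mul_cancel₀ hQ0, map_one]
    simp only [neg_mul, Finset.sum_neg_distrib, mul_assoc, ← Finset.mul_sum, hbsum]
    linear_combination (-(X j₀ * X j₀ : PS)) * h3

/-- Division by the form and its derivatives. -/
theorem exists_division [IsAlgClosed k] (q : Fin N → Fin N → k) (hq : VanCyc.QuadOrd q) :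
    ∃ (U : PS →ₗ[k] PS) (V : Fin N → PS →ₗ[k] PS),
      (∀ r g, g ∈ L r → U g ∈ L (r - 2)) ∧ (∀ i r g, g ∈ L r → V i g ∈ L (r - 1)) ∧
      ∀ g, g ∈ L 2 → g = U g * Qs q (fun i => X i) + ∑ i, V i g * dQ q i := by
  classical
  obtain ⟨Y, lam, c, a, b, hY, hb, hX, hYY⟩ := exists_split q hq
  let L1 : PS →ₗ[k] PS := ∑ j, lam j • D j
  let M : Fin N → PS →ₗ[k] PS := fun i => ∑ j, c j i • D j
  have hL1 : ∀ r g, g ∈ L r → L1 g ∈ L (r - 1) := fun r g hg => by
    simp only [L1, LinearMap.sum_apply, LinearMap.smul_apply, smul_eq_C_mul]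
    exact Submodule.sum_mem _ fun j _ => Ideal.mul_mem_left _ _ (D_mem j hg)
  have hMm : ∀ i r g, g ∈ L r → M i g ∈ L (r - 1) := fun i r g hg => by
    simp only [M, LinearMap.sum_apply, LinearMap.smul_apply, smul_eq_C_mul]
    exact Submodule.sum_mem _ fun j _ => Ideal.mul_mem_left _ _ (D_mem j hg)
  have hdiv : ∀ g, g ∈ L 1 → g = Y * L1 g + ∑ i, M i g * dQ q i := fun g hg => by
    have h0 : constantCoeff g = 0 := by
      rw [← coeff_zero_eq_constantCoeff]; exact mem_Low_bot.1 hg 0 (by simp)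
    conv_lhs => rw [← sub_zero g, ← map_zero C, ← h0, ← sum_X_mul_D g]
    conv_lhs => arg 2; ext j; rw [hX j, add_mul]
    rw [Finset.sum_add_distrib]
    simp only [L1, M, LinearMap.sum_apply, LinearMap.smul_apply, smul_eq_C_mul, Finset.sum_mul, Finset.mul_sum]
    rw [Finset.sum_comm (f := fun (i j : Fin N) => C (c i j) * dQ q j * D i g)]
    congr 1 <;> refine Finset.sum_congr rfl fun j _ => ?_
    · ring
    · exact Finset.sum_congr rfl fun i _ => by ring
  let U : PS →ₗ[k] PS := (LinearMap.mulLeft k (C a : PS)).comp (L1.comp L1)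
  let V : Fin N → PS →ₗ[k] PS := fun i =>
    (LinearMap.mulLeft k (b i)).comp (L1.comp L1) + (LinearMap.mulLeft k Y).comp ((M i).comp L1) + M i
  refine ⟨U, V, fun r g hg => ?_, fun i r g hg => ?_, fun g hg => ?_⟩
  · exact Ideal.mul_mem_left _ _ (Low_anti (by omega) (hL1 _ _ (hL1 r g hg)))
  · refine add_mem (add_mem ?_ ?_) (hMm i r g hg)
    · exact Low_anti (by omega) (mul_mem_Low (hb i) (hL1 _ _ (hL1 r g hg)))
    · exact Low_anti (by omega) (mul_mem_Low hY (hMm i _ _ (hL1 r g hg)))
  · show g = C a * L1 (L1 g) * _ + ∑ i, (b i * L1 (L1 g) + Y * M i (L1 g) + M i g) * dQ q i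
    conv_lhs => rw [hdiv g (Low_anti (by omega) hg), hdiv (L1 g) (hL1 2 g hg)]
    simp only [add_mul, Finset.sum_add_distrib, mul_assoc, ← Finset.mul_sum]
    rw [mul_add, ← mul_assoc Y Y, hYY]
    simp only [add_mul, Finset.sum_mul, Finset.mul_sum]
    ring_nf

theorem exists_fixed_series (T : PS → PS) (r : ℕ) (hT : ∀ v, v ∈ L r → T v ∈ L r)
    (hc : ∀ v w, v ∈ L r → w ∈ L r → ∀ d, v - w ∈ L d → T v - T w ∈ L (d + 1)) :
    ∃ v, v ∈ L r ∧ T v = v := by
  let s : ℕ → PS := fun m => T^[m] 0
  have hs : ∀ m, s m ∈ L r := by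
    intro m
    induction m with
    | zero => exact zero_mem _
    | succ m ih => simp only [s, Function.iterate_succ_apply']; exact hT _ ih
  have hd : ∀ m, s (m + 1) - s m ∈ L m := by
    intro m
    induction m with
    | zero => rw [Low_zero]; trivial
    | succ m ih =>
      have := hc _ _ (hs (m + 1)) (hs m) m ih
      simp only [s, Function.iterate_succ_apply'] at this ⊢
      exact this
  obtain ⟨l, hl⟩ := exists_limit s hd
  have hlr : l ∈ L r := by simpa using add_mem (hl r) (hs r)
  refine ⟨l, hlr, sub_eq_zero.1 (eq_zero_of_forall_mem (J := (⊥ : Ideal k)) fun m => ?_)⟩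
  have h1 := hc _ _ hlr (hs m) m (hl m)
  have h2 : s (m + 1) = T (s m) := Function.iterate_succ_apply' T m 0
  rw [← h2] at h1
  simpa using sub_mem (Low_anti (Nat.le_succ m) h1) (Low_anti (Nat.le_succ m) (hl (m + 1)))

theorem coeff_eq_quad (f : PS) (h : VanCyc.NoLowTerms f) (e : Fin N →₀ ℕ) (he : e.degree ≤ 2) :
    coeff e f = coeff e (VanCyc.quadPoly (VanCyc.quadPart f) : PS) := by
  rw [MvPolynomial.coeff_coe]
  rcases degree_cases e he with rfl | ⟨i, rfl⟩ | ⟨i, j, hij, rfl⟩
  · rw [coeff_quadPoly_ne _ (by simp), coeff_zero_eq_constantCoeff, h.1]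
  · rw [coeff_quadPoly_ne _ (by simp), h.2]
  · rw [coeff_quadPoly_pair _ hij, VanCyc.quadPart]
    rcases eq_or_lt_of_le hij with rfl | h'
    · rw [if_pos rfl, ← Finsupp.single_add]
    · rw [if_neg h'.ne, if_pos h']

/-- An ordinary quadratic series defines the same complete ring as its quadratic part. -/
theorem nonempty_quotient_equiv [IsAlgClosed k] (f : PS) (hf : VanCyc.OrdQuadSeries f) :
    Nonempty ((PS ⧸ Ideal.span {f}) ≃ₐ[k]
      (PS ⧸ Ideal.span {(VanCyc.quadPoly (VanCyc.quadPart f) : PS)})) := by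
  classical
  set q := VanCyc.quadPart f
  let Q : PS := Qs q fun i => X i
  have hQ : (VanCyc.quadPoly q : PS) = Q := coe_quadPoly q
  obtain ⟨U, V, hU, hV, hdiv⟩ := exists_division q hf.2
  set G := f - Q with hGdef
  have hG : G ∈ L 3 := by
    rw [hGdef, ← hQ]; exact sub_mem_Low_bot fun e he => coeff_eq_quad f hf.1 e he
  let inv : PS → PS := fun w => (1 + U w)⁻¹
  have hcc : ∀ w, w ∈ L 3 → constantCoeff (1 + U w) ≠ 0 := fun w hw => by
    have h := mem_Low_bot.1 (hU 3 w hw) 0 (by simp)
    rw [coeff_zero_eq_constantCoeff] at h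
    rw [map_add, map_one, h, add_zero]; exact one_ne_zero
  have hinv : ∀ w, w ∈ L 3 → (1 + U w) * inv w = 1 := fun w hw => MvPowerSeries.mul_inv_cancel _ (hcc w hw)
  let T : PS → PS := fun w => G - Qs q (fun i => V i w) * inv w
  obtain ⟨w, hw, hfix⟩ := exists_fixed_series T 3
    (fun w hw => sub_mem hG (Ideal.mul_mem_right _ _ (Low_anti (by omega)
      (quadEval_mem q (r := 2) fun i => hV i 3 w hw))))
    (fun v w hv hw d hd => by
      have h1 : Qs q (fun i => V i v) - Qs q (fun i => V i w) ∈ L (d + 1) := Low_anti (by omega)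
        (quadEval_sub_mem q (r := 2) (d := d - 1) (fun i => hV i 3 v hv) (fun i => hV i 3 w hw)
          fun i => by rw [← map_sub]; exact hV i d _ hd)
      have h2 : Qs q (fun i => V i w) * (U v - U w) ∈ L (d + 1) := Low_anti (by omega)
        (mul_mem_Low (quadEval_mem q (r := 2) fun i => hV i 3 w hw) (map_sub U v w ▸ hU d _ hd))
      have key : T v - T w = -(inv v * (Qs q (fun i => V i v) - Qs q (fun i => V i w))) +
          inv v * inv w * (Qs q (fun i => V i w) * (U v - U w)) := by
        simp only [T]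
        linear_combination (inv v * Qs q (fun i => V i w)) * hinv w hw -
          (inv w * Qs q (fun i => V i w)) * hinv v hv
      rw [key]
      exact add_mem (neg_mem (Ideal.mul_mem_left _ _ h1)) (Ideal.mul_mem_left _ _ h2))
  let ε : Fin N → PS := inv w • fun i => V i w
  have hε : ∀ i, ε i ∈ L 2 := fun i => Ideal.mul_mem_left _ _ (hV i 3 w hw)
  let F := Ev (fun i => X i + ε i) (X_add_mem (by omega) hε) Q
  have hF : F = Q + Qs q ε + ∑ j, ε j * dQ q j := by
    show Ev _ _ Q = _
    rw [← hQ, Ev_coe, aeval_quadPoly, ← c_eq_algebraMap]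
    show Qs q ((fun i => (X i : PS)) + ε) = _
    rw [Qs_add, sum_X_mul_polar, hQ]
  have hQe : Qs q ε = inv w ^ 2 * Qs q (fun i => V i w) := quadEval_smul _ _ _
  have hd := hdiv w (Low_anti (by omega) hw)
  have hT : G - Qs q (fun i => V i w) * inv w = w := hfix
  have key : f = (1 + U w) * F := by
    rw [hF, hQe]
    have hs : ∑ j, ε j * dQ q j = inv w * ∑ j, V j w * dQ q j := by
      rw [Finset.mul_sum]; exact Finset.sum_congr rfl fun j _ => by simp [ε, mul_assoc]
    rw [hs]
    linear_combination hT + hd -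
      (inv w * Qs q (fun i => V i w) + ∑ j, V j w * dQ q j) * hinv w hw
  have hu : IsUnit (1 + U w) := isUnit_iff_constantCoeff.2 (isUnit_iff_ne_zero.2 (hcc w hw))
  obtain ⟨e⟩ := quotient_equiv (J := (⊥ : Ideal k)) (r := 2) le_rfl ε hε F Q rfl
  rw [hQ]
  refine ⟨(Ideal.quotientEquivAlgOfEq k ?_).trans e⟩
  rw [key, mul_comm, Ideal.span_singleton_mul_right_unit hu]

end QuadHens
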